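import Groth.Agent.Eckardt51.Struct
import Mathlib.Analysis.Complex.Polynomial.Basic
import Mathlib.LinearAlgebra.Dimension.Constructions

/-!
Translation between matrices acting on quaternary cubic polynomials and the abstract statements.
-/

set_option autoImplicit false

namespace Groth.Agent.Eckardt51

open MvPolynomial

/-- The matrix is a homology with centre `e` preserving the cubic up to a scalar. -/
def IsEckInv (f : MvPolynomial (Fin 4) ℂ) (e : Fin 4 → ℂ) (A : Matrix (Fin 4) (Fin 4) ℂ) : Prop :=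
  A * A = 1 ∧ Module.finrank ℂ ↥(LinearMap.ker (Matrix.toLin' A - LinearMap.id)) = 3 ∧
    A.mulVec e = -e ∧
    ∃ c : ℂ, aeval (fun i : Fin 4 => ∑ j : Fin 4, C (A i j) * X j) f = C c * f

/-- Three distinct lines of the surface pass through `e`. -/
def IsEckPt (f : MvPolynomial (Fin 4) ℂ) (e : Fin 4 → ℂ) : Prop :=
  ∃ U : Fin 3 → Submodule ℂ (Fin 4 → ℂ), Function.Injective U ∧
    ∀ i : Fin 3, Module.finrank ℂ ↥(U i) = 2 ∧ e ∈ U i ∧ ∀ u ∈ U i, eval u f = 0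

lemma finrank_four : Module.finrank ℂ (Fin 4 → ℂ) = 4 := Module.finrank_fin_fun ℂ

variable {f : MvPolynomial (Fin 4) ℂ}

lemma isEckPt_iff (hf : f.IsHomogeneous 3) (e : Fin 4 → ℂ) :
    IsEckPt f e ↔ (ofPoly f).IsEckardt e := by
  simp only [IsEckPt, Sym3.IsEckardt, eval_eq_f hf]

lemma isEckInv_iff (hf : f.IsHomogeneous 3) {e : Fin 4 → ℂ} (he : e ≠ 0)
    (A : Matrix (Fin 4) (Fin 4) ℂ) :
    IsEckInv f e A ↔ ∃ N : (Fin 4 → ℂ) →ₗ[ℂ] ℂ, N e = 1 ∧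
      Matrix.toLin' A = Sym3.hom e N ∧
      ∃ c : ℂ, ∀ x, (ofPoly f).f (Sym3.hom e N x) = c * (ofPoly f).f x := by
  have happ : ∀ x, Matrix.toLin' A x = A.mulVec x := Matrix.toLin'_apply A
  constructor
  · rintro ⟨-, h3, hAe, c, hc⟩
    rw [preserves_iff] at hc
    obtain ⟨N, hN, hAN⟩ := Sym3.exists_hom (A := Matrix.toLin' A) he (by rw [happ, hAe])
      (by rw [h3, finrank_four])
    refine ⟨N, hN, hAN, c, fun x => ?_⟩
    rw [← hAN, happ, ← eval_eq_f hf, ← eval_eq_f hf]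
    exact hc x
  · rintro ⟨N, hN, hAN, c, hc⟩
    refine ⟨?_, ?_, ?_, c, (preserves_iff A f c).2 fun v => ?_⟩
    · refine (Matrix.toLin' (R := ℂ) (m := Fin 4) (n := Fin 4)).injective ?_
      rw [Matrix.toLin'_mul, Matrix.toLin'_one, hAN]
      exact LinearMap.ext (Sym3.hom_hom hN)
    · have := Sym3.finrank_fixed_hom (k := ℂ) (V := Fin 4 → ℂ) hN
      rw [← hAN, finrank_four] at this
      omega
    · rw [← happ, hAN]; exact Sym3.hom_self hN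
    · rw [← happ, hAN, eval_eq_f hf, eval_eq_f hf]
      exact hc v

lemma toMatrix_eq {A A' : Matrix (Fin 4) (Fin 4) ℂ}
    (h : ∀ x, A.mulVec x = A'.mulVec x) : A = A' :=
  (Matrix.toLin' (R := ℂ) (m := Fin 4) (n := Fin 4)).injective (LinearMap.ext h)

variable (hf : f.IsHomogeneous 3)
  (hsm : ∀ v : Fin 4 → ℂ, v ≠ 0 → eval v f = 0 → ∃ i : Fin 4, eval v (pderiv i f) ≠ 0)

include hf hsm

lemma exists_canonical {e : Fin 4 → ℂ} (he : e ≠ 0) (hE : IsEckPt f e) :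
    ∃ M : (Fin 4 → ℂ) →ₗ[ℂ] ℂ, M e = 1 ∧
      (∀ x y, (ofPoly f).T e x y =
        (ofPoly f).L e x * M y + M x * (ofPoly f).L e y) ∧
      (∃ y, (ofPoly f).L e y ≠ 0) ∧ (ofPoly f).f e = 0 := by
  rw [isEckPt_iff hf] at hE
  obtain ⟨M, hM, hT⟩ := (ofPoly f).exists_M finrank_four (smooth_ofPoly hf hsm) he hE
  exact ⟨M, hM, hT, smooth_ofPoly hf hsm e he hE.f_eq_zero, hE.f_eq_zero⟩

lemma canonical_inv {e : Fin 4 → ℂ} (he : e ≠ 0) (hE : IsEckPt f e)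
    {A : Matrix (Fin 4) (Fin 4) ℂ} (hA : IsEckInv f e A) :
    ∃ M : (Fin 4 → ℂ) →ₗ[ℂ] ℂ, M e = 1 ∧
      (∀ x y, (ofPoly f).T e x y =
        (ofPoly f).L e x * M y + M x * (ofPoly f).L e y) ∧
      ∀ x, A.mulVec x = Sym3.hom e M x := by
  obtain ⟨M, hM, hT, hL, hfe⟩ := exists_canonical hf hsm he hE
  obtain ⟨N, hN, hAN, c, hc⟩ := (isEckInv_iff hf he A).1 hA
  obtain rfl := (ofPoly f).N_eq_M hfe hL hN hM hT hc
  exact ⟨N, hM, hT, fun x => by rw [← Matrix.toLin'_apply A x, hAN]⟩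

lemma existsUnique_inv {e : Fin 4 → ℂ} (he : e ≠ 0) (hE : IsEckPt f e) :
    ∃! A, IsEckInv f e A := by
  obtain ⟨M, hM, hT, hL, hfe⟩ := exists_canonical hf hsm he hE
  refine ⟨LinearMap.toMatrix' (Sym3.hom e M),
    (isEckInv_iff hf he _).2 ⟨M, hM, Matrix.toLin'_toMatrix' _, 1, fun x => ?_⟩, fun A hA => ?_⟩
  · rw [one_mul, (ofPoly f).f_hom hfe hT]
  · obtain ⟨N, hN, hAN, c, hc⟩ := (isEckInv_iff hf he A).1 hA
    obtain rfl := (ofPoly f).N_eq_M hfe hL hN hM hT hc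
    rw [← hAN, LinearMap.toMatrix'_toLin']

lemma isEckPt_mulVec {e e' : Fin 4 → ℂ} (he : e ≠ 0) (hE : IsEckPt f e) (hE' : IsEckPt f e')
    {M : (Fin 4 → ℂ) →ₗ[ℂ] ℂ} (hM : M e = 1)
    (hT : ∀ x y, (ofPoly f).T e x y =
      (ofPoly f).L e x * M y + M x * (ofPoly f).L e y) :
    IsEckPt f (Sym3.hom e M e') := by
  have hfe : (ofPoly f).f e = 0 := ((isEckPt_iff hf e).1 hE).f_eq_zero
  have := hsm e he (by rwa [eval_eq_f hf])
  rw [isEckPt_iff hf] at hE' ⊢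
  exact hE'.map (LinearEquiv.ofLinear (Sym3.hom e M) (Sym3.hom e M)
    (LinearMap.ext (Sym3.hom_hom hM)) (LinearMap.ext (Sym3.hom_hom hM)))
    ((ofPoly f).f_hom hfe hT)

end Groth.Agent.Eckardt51
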