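import Mathlib.RingTheory.MvPolynomial.EulerIdentity
import Mathlib.Algebra.MvPolynomial.Funext
import Mathlib.LinearAlgebra.FiniteDimensional.Basic
import Mathlib.LinearAlgebra.Matrix.ToLin
import Mathlib.LinearAlgebra.Dual.Lemmas
import Mathlib.Tactic.FieldSimp
import Mathlib.Tactic.LinearCombination

/-!
Cubic forms in characteristic zero as symmetric trilinear forms.
-/

set_option autoImplicit false

namespace Groth.Agent.Eckardt51

open MvPolynomial

/-- A symmetric trilinear form. -/
structure Sym3 (k V : Type*) [Field k] [AddCommGroup V] [Module k V] where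
  T : V →ₗ[k] V →ₗ[k] V →ₗ[k] k
  s12 : ∀ x y z, T x y z = T y x z
  s23 : ∀ x y z, T x y z = T x z y

namespace Sym3

variable {k V : Type*} [Field k] [CharZero k] [AddCommGroup V] [Module k V] (F : Sym3 k V)

/-- The cubic function. -/
def f (x : V) : k := F.T x x x

omit [CharZero k] in
lemma s13 (x y z : V) : F.T x y z = F.T z y x := by rw [F.s12, F.s23, F.s12]

omit [CharZero k] in
lemma f_add_smul (x y : V) (t : k) :
    F.f (x + t • y) = F.f x + 3 * t * F.T x x y + 3 * t ^ 2 * F.T x y y + t ^ 3 * F.f y := by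
  simp only [f, map_add, map_smul, LinearMap.add_apply, LinearMap.smul_apply, smul_eq_mul]
  rw [F.s12 y x x, F.s12 y x y, F.s23 x y x, F.s23 y y x, F.s12 y x y]
  ring

omit [CharZero k] in
lemma f_smul (t : k) (x : V) : F.f (t • x) = t ^ 3 * F.f x := by
  simp only [f, map_smul, LinearMap.smul_apply, smul_eq_mul]
  ring

omit [CharZero k] in
lemma six_T (x y z : V) : 6 * F.T x y z =
    F.f (x + y + z) - F.f (x + y) - F.f (x + z) - F.f (y + z) + F.f x + F.f y + F.f z := by
  simp only [f, map_add, LinearMap.add_apply]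
  linear_combination F.s23 x y z + F.s12 x y z + (F.s12 x y z).trans (F.s23 y x z) +
    (F.s23 x y z).trans (F.s12 x z y) + F.s13 x y z

lemma T_map_of_f_map (A : V → V) (hA : ∀ x y, A (x + y) = A x + A y) (c : k)
    (h : ∀ x, F.f (A x) = c * F.f x) (x y z : V) : F.T (A x) (A y) (A z) = c * F.T x y z := by
  refine mul_left_cancel₀ (show (6 : k) ≠ 0 by norm_num) ?_
  rw [mul_left_comm, F.six_T, F.six_T, ← hA, ← hA, ← hA, ← hA, h, h, h, h, h, h, h]
  ring

lemma T_eq_zero_of_f_eq_zero {U : Submodule k V} (hU : ∀ u ∈ U, F.f u = 0) {x y z : V}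
    (hx : x ∈ U) (hy : y ∈ U) (hz : z ∈ U) : F.T x y z = 0 := by
  have := F.six_T x y z
  rw [hU _ (add_mem (add_mem hx hy) hz), hU _ (add_mem hx hy), hU _ (add_mem hx hz),
    hU _ (add_mem hy hz), hU _ hx, hU _ hy, hU _ hz] at this
  simpa using this

end Sym3

variable {k : Type*} [Field k] {n : ℕ}

/-- The linear substitution of a matrix evaluates as composition with the linear map. -/
lemma eval_aeval_matrix (A : Matrix (Fin n) (Fin n) k) (f : MvPolynomial (Fin n) k)
    (v : Fin n → k) :
    eval v (aeval (fun i : Fin n => ∑ j : Fin n, C (A i j) * X j) f) = eval (A.mulVec v) f := by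
  induction f using MvPolynomial.induction_on with
  | C a => simp
  | add p q hp hq => simp [hp, hq]
  | mul_X p i hp => simp [hp, Matrix.mulVec, dotProduct]

lemma preserves_iff [Infinite k] (A : Matrix (Fin n) (Fin n) k) (f : MvPolynomial (Fin n) k)
    (c : k) :
    aeval (fun i : Fin n => ∑ j : Fin n, C (A i j) * X j) f = C c * f ↔
      ∀ v, eval (A.mulVec v) f = c * eval v f := by
  refine ⟨fun h v => ?_, fun h => MvPolynomial.funext fun v => ?_⟩
  · rw [← eval_aeval_matrix, h]; simp
  · rw [eval_aeval_matrix, h]; simp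

lemma eval_eq_constantCoeff {p : MvPolynomial (Fin n) k} (hp : p.IsHomogeneous 0)
    (v : Fin n → k) : eval v p = constantCoeff p := by
  replace hp := (MvPolynomial.totalDegree_zero_iff_isHomogeneous (p := p)).2 hp
  conv_lhs => rw [MvPolynomial.totalDegree_eq_zero_iff_eq_C.1 hp]
  simp [constantCoeff_eq]

lemma euler {p : MvPolynomial (Fin n) k} {d : ℕ} (hp : p.IsHomogeneous d) (v : Fin n → k) :
    ∑ i, v i * eval v (pderiv i p) = d * eval v p := by
  simpa using congrArg (eval v) hp.sum_X_mul_pderiv

/-- The third derivative constants. -/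
noncomputable def c3 (f : MvPolynomial (Fin n) k) (i j l : Fin n) : k :=
  constantCoeff (pderiv l (pderiv j (pderiv i f)))

lemma pderiv_comm' (p : MvPolynomial (Fin n) k) (i j : Fin n) :
    pderiv i (pderiv j p) = pderiv j (pderiv i p) := by
  induction p using MvPolynomial.induction_on with
  | C a => simp
  | add p q hp hq => simp [hp, hq]
  | mul_X p l hp =>
    classical
    have hX : ∀ a b : Fin n, pderiv a (pderiv b (X l : MvPolynomial (Fin n) k)) = 0 := fun a b => by
      rw [pderiv_X, Pi.single_apply]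
      split_ifs <;> simp
    simp only [pderiv_mul, map_add, hX, hp]
    ring

lemma c3_s12 (f : MvPolynomial (Fin n) k) (i j l : Fin n) : c3 f i j l = c3 f j i l := by
  rw [c3, c3, pderiv_comm' f j i]

lemma c3_s23 (f : MvPolynomial (Fin n) k) (i j l : Fin n) : c3 f i j l = c3 f i l j := by
  rw [c3, c3, pderiv_comm' (pderiv i f) l j]

/-- The values of the symmetric trilinear form of a cubic polynomial. -/
noncomputable def polVal (f : MvPolynomial (Fin n) k) (x y z : Fin n → k) : k :=
  (6 : k)⁻¹ * ∑ i, ∑ j, ∑ l, c3 f i j l * (x i * (y j * z l))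

lemma polVal_s12 (f : MvPolynomial (Fin n) k) (x y z : Fin n → k) :
    polVal f x y z = polVal f y x z := by
  rw [polVal, polVal, Finset.sum_comm]
  refine congrArg (fun t : k => (6 : k)⁻¹ * t) ?_
  refine Finset.sum_congr rfl fun i _ => Finset.sum_congr rfl fun j _ =>
    Finset.sum_congr rfl fun l _ => ?_
  rw [c3_s12]; ring

lemma polVal_s23 (f : MvPolynomial (Fin n) k) (x y z : Fin n → k) :
    polVal f x y z = polVal f x z y := by
  rw [polVal, polVal]
  refine congrArg (fun t : k => (6 : k)⁻¹ * t) ?_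
  refine Finset.sum_congr rfl fun i _ => ?_
  rw [Finset.sum_comm]
  refine Finset.sum_congr rfl fun j _ => Finset.sum_congr rfl fun l _ => ?_
  rw [c3_s23]; ring

lemma polVal_add (f : MvPolynomial (Fin n) k) (x y z z' : Fin n → k) :
    polVal f x y (z + z') = polVal f x y z + polVal f x y z' := by
  simp only [polVal, Pi.add_apply, mul_add, Finset.sum_add_distrib]

lemma polVal_smul (f : MvPolynomial (Fin n) k) (x y z : Fin n → k) (r : k) :
    polVal f x y (r • z) = r * polVal f x y z := by
  simp only [polVal, Pi.smul_apply, smul_eq_mul, Finset.mul_sum, mul_left_comm r]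

/-- The linear form `polVal f x y`. -/
noncomputable def polLin (f : MvPolynomial (Fin n) k) (x y : Fin n → k) : (Fin n → k) →ₗ[k] k where
  toFun := polVal f x y
  map_add' := polVal_add f x y
  map_smul' r z := polVal_smul f x y z r

lemma polLin_apply (f : MvPolynomial (Fin n) k) (x y z : Fin n → k) :
    polLin f x y z = polVal f x y z := rfl

lemma polLin_left_add (f : MvPolynomial (Fin n) k) (x x' y : Fin n → k) :
    polLin f (x + x') y = polLin f x y + polLin f x' y := by
  refine LinearMap.ext fun z => ?_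
  rw [LinearMap.add_apply, polLin_apply, polLin_apply, polLin_apply]
  simp only [polVal, Pi.add_apply, add_mul, mul_add, Finset.sum_add_distrib]

lemma polLin_left_smul (f : MvPolynomial (Fin n) k) (r : k) (x y : Fin n → k) :
    polLin f (r • x) y = r • polLin f x y := by
  refine LinearMap.ext fun z => ?_
  rw [LinearMap.smul_apply, polLin_apply, polLin_apply]
  simp only [polVal, Pi.smul_apply, smul_eq_mul, Finset.mul_sum, mul_assoc, mul_left_comm r]

lemma polLin_comm (f : MvPolynomial (Fin n) k) (x y : Fin n → k) : polLin f x y = polLin f y x :=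
  LinearMap.ext fun z => polVal_s12 f x y z

/-- The trilinear map of a cubic polynomial. -/
noncomputable def polBil (f : MvPolynomial (Fin n) k) :
    (Fin n → k) →ₗ[k] (Fin n → k) →ₗ[k] (Fin n → k) →ₗ[k] k :=
  LinearMap.mk₂ k (polLin f) (polLin_left_add f) (polLin_left_smul f)
    (fun x y y' => by rw [polLin_comm, polLin_left_add, polLin_comm f y, polLin_comm f y'])
    (fun r x y => by rw [polLin_comm, polLin_left_smul, polLin_comm f y])

/-- The symmetric trilinear form of a cubic polynomial. -/
noncomputable def ofPoly (f : MvPolynomial (Fin n) k) : Sym3 k (Fin n → k) :=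
  ⟨polBil f, polVal_s12 f, polVal_s23 f⟩

variable [CharZero k] {f : MvPolynomial (Fin n) k}

omit [CharZero k] in
lemma ofPoly_T_apply (x y z : Fin n → k) :
    (ofPoly f).T x y z = (6 : k)⁻¹ * ∑ i, ∑ j, ∑ l, c3 f i j l * (x i * (y j * z l)) := rfl

omit [CharZero k] in
lemma eval_pderiv_eq (hf : f.IsHomogeneous 3) (x : Fin n → k) (i : Fin n) :
    2 * eval x (pderiv i f) = ∑ j, ∑ l, c3 f i j l * (x j * x l) := by
  have h1 := euler (hf.pderiv (i := i)) x
  simp only [Nat.add_one_sub_one] at h1
  push_cast at h1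
  rw [← h1]
  refine Finset.sum_congr rfl fun j _ => ?_
  have h2 := euler ((hf.pderiv (i := i)).pderiv (i := j)) x
  simp only [Nat.add_one_sub_one, Nat.cast_one, one_mul] at h2
  rw [← h2, Finset.mul_sum]
  refine Finset.sum_congr rfl fun l _ => ?_
  rw [eval_eq_constantCoeff (((hf.pderiv (i := i)).pderiv (i := j)).pderiv (i := l))]
  simp only [c3]
  ring

lemma eval_eq_f (hf : f.IsHomogeneous 3) (x : Fin n → k) : eval x f = (ofPoly f).f x := by
  rw [Sym3.f, ofPoly_T_apply]
  have h := euler hf x
  have : ∀ i, ∑ j, ∑ l, c3 f i j l * (x i * (x j * x l)) = x i * (2 * eval x (pderiv i f)) := by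
    intro i
    simp only [eval_pderiv_eq hf, Finset.mul_sum]
    exact Finset.sum_congr rfl fun j _ => Finset.sum_congr rfl fun l _ => by ring
  simp only [this]
  rw [show ∑ i, x i * (2 * eval x (pderiv i f)) = 2 * ∑ i, x i * eval x (pderiv i f) by
    rw [Finset.mul_sum]; exact Finset.sum_congr rfl fun i _ => by ring, h]
  push_cast
  field_simp
  ring

lemma ofPoly_T_single (hf : f.IsHomogeneous 3) (x : Fin n → k) (i : Fin n) :
    3 * (ofPoly f).T x x (Pi.single i 1) = eval x (pderiv i f) := by
  classical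
  rw [(ofPoly f).s13, ofPoly_T_apply]
  have : ∀ i', ∑ j, ∑ l, c3 f i' j l * ((Pi.single i (1 : k) : Fin n → k) i' * (x j * x l)) =
      (Pi.single i (1 : k) : Fin n → k) i' * (2 * eval x (pderiv i' f)) := by
    intro i'
    simp only [eval_pderiv_eq hf, Finset.mul_sum]
    exact Finset.sum_congr rfl fun j _ => Finset.sum_congr rfl fun l _ => by ring
  simp only [this]
  rw [Finset.sum_eq_single i (fun j _ hj => by simp [hj]) (by simp), Pi.single_eq_same]
  field_simp
  ring

lemma smooth_ofPoly (hf : f.IsHomogeneous 3)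
    (hsm : ∀ v : Fin n → k, v ≠ 0 → eval v f = 0 → ∃ i, eval v (pderiv i f) ≠ 0) :
    ∀ v, v ≠ 0 → (ofPoly f).f v = 0 → ∃ y, (ofPoly f).T v v y ≠ 0 := by
  intro v hv h
  obtain ⟨i, hi⟩ := hsm v hv (by rwa [eval_eq_f hf])
  exact ⟨Pi.single i 1, fun h0 => hi (by rw [← ofPoly_T_single hf, h0, mul_zero])⟩

end Groth.Agent.Eckardt51
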