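import Groth.Agent.Eckardt51.Form
import Mathlib.FieldTheory.IsAlgClosed.Basic
import Mathlib.LinearAlgebra.Dimension.Constructions
import Mathlib.Tactic.Module
import Mathlib.Tactic.LinearCombination
import Mathlib.Tactic.NormNum
import Mathlib.Algebra.Polynomial.Degree.Lemmas

/-!
Eckardt points of smooth cubic surfaces and their harmonic homologies.
-/

set_option autoImplicit false

namespace Groth.Agent.Eckardt51

open Module Submodule

variable {k V : Type*} [Field k] [CharZero k] [AddCommGroup V] [Module k V] [FiniteDimensional k V]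

namespace Sym3

variable (F : Sym3 k V)

/-- The cubic is smooth. -/
def Smooth : Prop := ∀ v, v ≠ 0 → F.f v = 0 → ∃ y, F.T v v y ≠ 0

/-- `e` lies on three distinct lines of the surface. -/
def IsEckardt (e : V) : Prop :=
  ∃ U : Fin 3 → Submodule k V, Function.Injective U ∧
    ∀ i, finrank k ↥(U i) = 2 ∧ e ∈ U i ∧ ∀ u ∈ U i, F.f u = 0

/-- The tangent plane form at a point. -/
def L (e : V) : V →ₗ[k] k := F.T e e

/-- The homology with centre `e` and axis `ker N`. -/
def hom (e : V) (N : V →ₗ[k] k) : V →ₗ[k] V := LinearMap.id - (2 • N).smulRight e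

omit [CharZero k] [FiniteDimensional k V] in
lemma hom_apply (e : V) (N : V →ₗ[k] k) (x : V) : hom e N x = x - (2 * N x) • e := by
  simp [hom, two_mul, two_smul]

omit [CharZero k] [FiniteDimensional k V] in
lemma N_hom {e : V} {N : V →ₗ[k] k} (hN : N e = 1) (x : V) : N (hom e N x) = -N x := by
  rw [hom_apply, map_sub, map_smul, hN, smul_eq_mul]; ring

omit [CharZero k] [FiniteDimensional k V] in
lemma hom_hom {e : V} {N : V →ₗ[k] k} (hN : N e = 1) (x : V) : hom e N (hom e N x) = x := by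
  rw [hom_apply e N (hom e N x), N_hom hN, hom_apply, mul_neg, neg_smul]
  abel

omit [CharZero k] [FiniteDimensional k V] in
lemma hom_self {e : V} {N : V →ₗ[k] k} (hN : N e = 1) : hom e N e = -e := by
  rw [hom_apply, hN, mul_one, two_smul]; abel

omit [CharZero k] [FiniteDimensional k V] in
lemma hom_of_N_eq_zero {e : V} {N : V →ₗ[k] k} {x : V} (hx : N x = 0) : hom e N x = x := by
  rw [hom_apply, hx, mul_zero, zero_smul, sub_zero]

/-- An involution fixing a hyperplane and negating `e` is a homology. -/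
lemma exists_hom {A : V →ₗ[k] V} {e : V} (he : e ≠ 0) (hAe : A e = -e)
    (hfix : finrank k ↥(LinearMap.ker (A - LinearMap.id)) + 1 = finrank k V) :
    ∃ N : V →ₗ[k] k, N e = 1 ∧ A = hom e N := by
  set P := LinearMap.ker (A - LinearMap.id) with hP
  have mP : ∀ x, x ∈ P ↔ A x = x := fun x => by simp [hP, sub_eq_zero]
  have heP : e ∉ P := fun h => he <| by
    rw [mP, hAe, neg_eq_iff_add_eq_zero, ← two_smul k] at h
    simpa using h
  obtain ⟨φ, hφe, hφP⟩ := Submodule.exists_le_ker_of_notMem heP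
  refine ⟨(φ e)⁻¹ • φ, by simp [hφe], ?_⟩
  have hker : LinearMap.ker φ = P := by
    refine (Submodule.eq_of_le_of_finrank_le hφP ?_).symm
    have hlt : finrank k ↥(LinearMap.ker φ) < finrank k V :=
      Submodule.finrank_lt fun h => hφe (LinearMap.mem_ker.1 (h ▸ Submodule.mem_top))
    omega
  refine LinearMap.ext fun x => ?_
  have hx : x - ((φ e)⁻¹ * φ x) • e ∈ P := by
    rw [← hker, LinearMap.mem_ker, map_sub, map_smul, smul_eq_mul]
    field_simp
    ring
  rw [mP, map_sub, map_smul, hAe] at hx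
  rw [hom_apply, LinearMap.smul_apply, smul_eq_mul, two_mul, add_smul]
  rw [sub_eq_iff_eq_add] at hx
  rw [hx, smul_neg]
  abel

lemma finrank_fixed_hom {e : V} {N : V →ₗ[k] k} (hN : N e = 1) :
    finrank k ↥(LinearMap.ker (hom e N - LinearMap.id)) + 1 = finrank k V := by
  have he : e ≠ 0 := fun h => by simp [h] at hN
  have h1 : LinearMap.ker (hom e N - LinearMap.id) = LinearMap.ker N := by
    ext x
    simp [hom_apply, he]
  rw [h1]
  have := LinearMap.finrank_range_add_finrank_ker N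
  rw [LinearMap.range_eq_top.2 fun t => ⟨t • e, by simp [hN]⟩, finrank_top,
    Module.finrank_self] at this
  omega

omit [CharZero k] [FiniteDimensional k V] in
lemma IsEckardt.f_eq_zero {F : Sym3 k V} {e : V} (hE : F.IsEckardt e) : F.f e = 0 := by
  obtain ⟨U, -, hU⟩ := hE
  exact (hU 0).2.2 e (hU 0).2.1

omit [CharZero k] in
/-- A two-dimensional subspace through `e` is spanned by `e` and any other of its vectors. -/
lemma exists_coeff_of_mem_line {e u z : V} (he : e ≠ 0) {U : Submodule k V}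
    (hU : finrank k ↥U = 2) (heU : e ∈ U) (huU : u ∈ U) (hu : u ∉ span k {e}) (hz : z ∈ U) :
    ∃ s t : k, z = s • e + t • u := by
  have hli : LinearIndependent k ![e, u] :=
    (LinearIndependent.pair_iff' he).2 fun a h => hu (h ▸ smul_mem _ a (mem_span_singleton_self e))
  have hle : span k (Set.range ![e, u]) ≤ U := by
    rw [span_le, Set.range_subset_iff]
    intro i; fin_cases i <;> assumption
  have := Submodule.eq_of_le_of_finrank_le hle (by rw [finrank_span_eq_card hli, hU]; simp)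
  rw [← this, Matrix.range_cons, Matrix.range_cons, Matrix.range_empty, Set.union_empty,
    Set.singleton_union, mem_span_pair] at hz
  obtain ⟨s, t, h⟩ := hz
  exact ⟨s, t, h.symm⟩

omit [CharZero k] [FiniteDimensional k V] in
lemma exists_mem_notMem_span {e : V} {U : Submodule k V} (hU : finrank k ↥U = 2) :
    ∃ u ∈ U, u ∉ span k {e} := by
  refine SetLike.not_le_iff_exists.1 fun h => ?_
  have h1 := Submodule.finrank_mono h
  have h2 := finrank_span_le_card (R := k) ({e} : Set V)
  simp only [Set.toFinset_singleton, Finset.card_singleton] at h2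
  omega

/-- The fundamental structure of a smooth cubic surface at an Eckardt point. -/
theorem exists_M (hV : finrank k V = 4) (hsm : F.Smooth) {e : V} (he : e ≠ 0)
    (hE : F.IsEckardt e) :
    ∃ M : V →ₗ[k] k, M e = 1 ∧
      ∀ x y, F.T e x y = F.L e x * M y + M x * F.L e y := by
  obtain ⟨y₀, hy₀⟩ := hsm e he hE.f_eq_zero
  have hee : F.L e e = 0 := hE.f_eq_zero
  obtain ⟨U, hUi, hU⟩ := hE
  choose hdim hmem hvan using hU
  set H := LinearMap.ker (F.L e) with hHdef
  have hH : ∀ {x}, x ∈ H ↔ F.L e x = 0 := LinearMap.mem_ker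
  have hUH : ∀ i, U i ≤ H := fun i u hu =>
    hH.2 (F.T_eq_zero_of_f_eq_zero (hvan i) (hmem i) (hmem i) hu)
  choose u huU hu using fun i => exists_mem_notMem_span (k := k) (e := e) (hdim i)
  have hcoef := fun i z (hz : z ∈ U i) =>
    exists_coeff_of_mem_line he (hdim i) (hmem i) (huU i) (hu i) hz
  have hinter : ∀ i j, i ≠ j → u i ∉ U j := by
    intro i j hij hm
    refine hij (hUi (Submodule.eq_of_le_of_finrank_le ?_ (by rw [hdim i, hdim j])))
    intro z hz
    obtain ⟨s, t, rfl⟩ := hcoef i z hz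
    exact add_mem (smul_mem _ s (hmem j)) (smul_mem _ t hm)
  have hdimH : finrank k ↥H = 3 := by
    have := LinearMap.finrank_range_add_finrank_ker (F.L e)
    rw [LinearMap.range_eq_top.2 fun t => ⟨(t / F.L e y₀) • y₀, by
      rw [map_smul, smul_eq_mul, div_mul_cancel₀ _ (show F.L e y₀ ≠ 0 from hy₀)]⟩, finrank_top, Module.finrank_self,
      hV, ← hHdef] at this
    omega
  have hsup : U 0 ⊔ U 1 = H := by
    refine Submodule.eq_of_le_of_finrank_le (sup_le (hUH 0) (hUH 1)) ?_
    have h1 : U 0 < U 0 ⊔ U 1 :=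
      lt_of_le_of_ne le_sup_left fun h => hinter 1 0 (by decide) (h ▸ mem_sup_right (huU 1))
    have := Submodule.finrank_lt_finrank_of_lt h1
    rw [hdim 0] at this
    omega
  have hline : ∀ i, ∀ y ∈ U i, ∀ z ∈ U i, F.T e y z = 0 := fun i y hy z hz =>
    F.T_eq_zero_of_f_eq_zero (hvan i) (hmem i) hy hz
  obtain ⟨z₀, hz₀, z₁, hz₁, h2⟩ := mem_sup.1 (hsup ▸ hUH 2 (huU 2) : u 2 ∈ U 0 ⊔ U 1)
  obtain ⟨s₀, t₀, rfl⟩ := hcoef 0 z₀ hz₀
  obtain ⟨s₁, t₁, rfl⟩ := hcoef 1 z₁ hz₁
  have ht₀ : t₀ ≠ 0 := fun h => hinter 2 1 (by decide) <| by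
    rw [← h2, h, zero_smul, add_zero]
    exact add_mem (smul_mem _ _ (hmem 1)) (add_mem (smul_mem _ _ (hmem 1)) (smul_mem _ _ (huU 1)))
  have ht₁ : t₁ ≠ 0 := fun h => hinter 2 0 (by decide) <| by
    rw [← h2, h, zero_smul, add_zero]
    exact add_mem (add_mem (smul_mem _ _ (hmem 0)) (smul_mem _ _ (huU 0))) (smul_mem _ _ (hmem 0))
  have hE2 : ∀ i y, y ∈ U i → F.T e e y = 0 := fun i y hy => hline i e (hmem i) y hy
  have h01 : F.T e (u 0) (u 1) = 0 := by
    have h := hline 2 (u 2) (huU 2) (u 2) (huU 2)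
    rw [← h2] at h
    simp only [map_add, map_smul, LinearMap.add_apply, LinearMap.smul_apply, smul_eq_mul] at h
    simp only [hE2 0 _ (hmem 0), hE2 0 _ (huU 0), hE2 1 _ (huU 1), F.s23 e (u 0) e,
      F.s23 e (u 1) e, hline 0 _ (huU 0) _ (huU 0), hline 1 _ (huU 1) _ (huU 1),
      F.s23 e (u 1) (u 0)] at h
    ring_nf at h
    simpa [ht₀, ht₁] using h
  have hHH : ∀ y ∈ H, ∀ z ∈ H, F.T e y z = 0 := by
    intro y hy z hz
    rw [← hsup, mem_sup] at hy hz
    obtain ⟨a, ha, b, hb, rfl⟩ := hy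
    obtain ⟨c, hc, d, hd, rfl⟩ := hz
    have cross : ∀ p ∈ U 0, ∀ q ∈ U 1, F.T e p q = 0 := by
      intro p hp q hq
      obtain ⟨s, t, rfl⟩ := hcoef 0 p hp
      obtain ⟨s', t', rfl⟩ := hcoef 1 q hq
      simp [hE2 0 _ (hmem 0), hE2 1 _ (huU 1), F.s23 e (u 0) e, hE2 0 _ (huU 0), h01]
    simp [hline 0 a ha c hc, hline 1 b hb d hd, cross a ha d hd, F.s23 e b c, cross c hc b hb]
  let w := (F.L e y₀)⁻¹ • y₀
  have hw : F.L e w = 1 := by
    rw [map_smul, smul_eq_mul, inv_mul_cancel₀]; exact hy₀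
  have hLw : ∀ x, F.L e x = F.T e x e := fun x => (F.s23 e x e).symm
  refine ⟨F.T e w - (F.T e w w / 2) • F.L e, ?_, fun x y => ?_⟩
  · rw [LinearMap.sub_apply, LinearMap.smul_apply, hee, smul_zero, sub_zero, ← hLw, hw]
  · have h := hHH (x - F.L e x • w) (hH.2 (by simp [hw])) (y - F.L e y • w) (hH.2 (by simp [hw]))
    simp only [map_sub, map_smul, LinearMap.sub_apply, LinearMap.smul_apply, smul_eq_mul] at h ⊢
    rw [F.s23 e x w] at h
    linear_combination h

omit [CharZero k] [FiniteDimensional k V] in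
lemma f_add_smul_center (e x : V) (t : k) :
    F.f (x + t • e) = F.f x + 3 * t * F.T e x x + 3 * t ^ 2 * F.L e x + t ^ 3 * F.f e := by
  rw [F.f_add_smul, F.s13 x x e, F.s13 x e e, L]

omit [CharZero k] [FiniteDimensional k V] in
lemma f_hom {e : V} (hfe : F.f e = 0) {M : V →ₗ[k] k}
    (hT : ∀ x y, F.T e x y = F.L e x * M y + M x * F.L e y) (x : V) :
    F.f (hom e M x) = F.f x := by
  rw [hom_apply, sub_eq_add_neg, ← neg_smul, F.f_add_smul_center, hfe, hT]
  ring

omit [FiniteDimensional k V] in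
/-- A homology preserving the cubic up to a scalar preserves it and is polar to its centre. -/
lemma hom_polar {e : V} (he : F.f e = 0) (hL : ∃ y, F.L e y ≠ 0) {N : V →ₗ[k] k} (hN : N e = 1)
    {c : k} (hc : ∀ x, F.f (hom e N x) = c * F.f x) :
    c = 1 ∧ (∃ z, N z = 0 ∧ F.L e z ≠ 0) ∧ ∀ x y, N x = 0 → N y = 0 → F.T e x y = 0 := by
  obtain ⟨y, hy⟩ := hL
  have hz : ∃ z, N z = 0 ∧ F.L e z ≠ 0 := ⟨y - N y • e, by simp [hN], by
    rw [map_sub, map_smul, show F.L e e = 0 from he, smul_zero, sub_zero]; exact hy⟩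
  have hT := F.T_map_of_f_map (hom e N) (map_add _) c hc
  obtain ⟨z, hz1, hz2⟩ := hz
  have h := hT e e z
  rw [hom_self hN, hom_of_N_eq_zero hz1] at h
  have hc1 : c = 1 := by
    have : F.L e z = c * F.L e z := by simpa [L] using h
    exact mul_right_cancel₀ hz2 (by rw [← this, one_mul])
  refine ⟨hc1, ⟨z, hz1, hz2⟩, fun a b ha hb => ?_⟩
  have h := hT e a b
  rw [hom_self hN, hom_of_N_eq_zero ha, hom_of_N_eq_zero hb, hc1, one_mul, map_neg,
    LinearMap.neg_apply, LinearMap.neg_apply, neg_eq_iff_add_eq_zero, ← two_mul] at h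
  simpa using h

omit [FiniteDimensional k V] in
/-- Uniqueness of the homology attached to a centre. -/
lemma N_eq_M {e : V} (he : F.f e = 0) (hL : ∃ y, F.L e y ≠ 0) {N M : V →ₗ[k] k} (hN : N e = 1)
    (hM : M e = 1) (hT : ∀ x y, F.T e x y = F.L e x * M y + M x * F.L e y)
    {c : k} (hc : ∀ x, F.f (hom e N x) = c * F.f x) : N = M := by
  obtain ⟨-, ⟨z, hz1, hz2⟩, hP⟩ := F.hom_polar he hL hN hc
  have hMz : M z = 0 := by
    have := hP z z hz1 hz1
    rw [hT, mul_comm (M z), ← two_mul] at this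
    simpa [hz2] using this
  refine LinearMap.ext fun x => ?_
  have hx : N (x - N x • e) = 0 := by simp [hN]
  have := hP z _ hz1 hx
  rw [hT, hMz, zero_mul, add_zero] at this
  simp only [mul_eq_zero, hz2, false_or] at this
  rw [map_sub, map_smul, hM, smul_eq_mul, mul_one, sub_eq_zero] at this
  exact this.symm

omit [CharZero k] [FiniteDimensional k V] in
lemma IsEckardt.map {F : Sym3 k V} {e : V} (hE : F.IsEckardt e) (A : V ≃ₗ[k] V)
    (hA : ∀ x, F.f (A x) = F.f x) : F.IsEckardt (A e) := by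
  obtain ⟨U, hi, hU⟩ := hE
  refine ⟨fun i => (U i).map A.toLinearMap,
    fun i j h => hi (Submodule.map_injective_of_injective A.injective h), fun i => ⟨?_, ?_, ?_⟩⟩
  · rw [LinearEquiv.finrank_map_eq]; exact (hU i).1
  · exact Submodule.mem_map_of_mem (hU i).2.1
  · rintro _ ⟨v, hv, rfl⟩
    exact (hA v).trans ((hU i).2.2 v hv)

variable [IsAlgClosed k]

/-- A point on the surface fixed as centre of a homology of the surface is an Eckardt point. -/
theorem isEckardt_of_hom (hV : finrank k V = 4) (hsm : F.Smooth) {p : V} (hp : p ≠ 0)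
    (hfp : F.f p = 0) {N : V →ₗ[k] k} (hN : N p = 1) {c : k}
    (hc : ∀ x, F.f (hom p N x) = c * F.f x) : F.IsEckardt p := by
  obtain ⟨-, ⟨z₀, hz₀, hz₀'⟩, hP⟩ := F.hom_polar hfp (hsm p hp hfp) hN hc
  have hLp : F.L p p = 0 := hfp
  set W := LinearMap.ker N ⊓ LinearMap.ker (F.L p) with hWdef
  have mW : ∀ {x}, x ∈ W ↔ N x = 0 ∧ F.L p x = 0 := fun {x} => by simp [hWdef]
  have hdimW : finrank k ↥W = 2 := by
    have h := LinearMap.finrank_range_add_finrank_ker (N.prod (F.L p))
    rw [LinearMap.range_eq_top.2 fun ab => ⟨ab.1 • p + (ab.2 / F.L p z₀) • z₀, by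
      ext <;> simp [hN, hz₀, hLp, hz₀']⟩, finrank_top, Module.finrank_prod, Module.finrank_self,
      hV, LinearMap.ker_prod, ← hWdef] at h
    omega
  have hbil : ∀ u, N u = 0 → F.L p u = 0 → ∀ y, F.T p u y = 0 := by
    intro u hu hu' y
    have h1 := hP u (y - N y • p) hu (by simp [hN])
    rw [map_sub, map_smul, F.s23 p u p] at h1
    have : F.T p p u = 0 := hu'
    simpa [this] using h1
  have hexp : ∀ (u : V) (s t : k), N u = 0 → F.L p u = 0 →
      F.f (s • p + t • u) = t ^ 3 * F.f u := by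
    intro u s t hu hu'
    rw [add_comm, F.f_add_smul_center, hfp, F.f_smul]
    simp [hP u u hu hu, hu']
  have simple : ∀ u ∈ W, u ≠ 0 → F.f u = 0 → ∃ y ∈ W, F.T u u y ≠ 0 := by
    intro u hu hu0 hfu
    by_contra! hall
    obtain ⟨hu1, hu2⟩ := mW.1 hu
    obtain ⟨t, ht⟩ := IsAlgClosed.exists_pow_nat_eq (-(F.T u u z₀ / F.L p z₀)) (n := 2) two_pos
    have hv : u + t • p ≠ 0 := fun h => hu0 <| by
      have h' := congrArg N h
      rw [map_add, map_smul, hu1, hN, map_zero] at h'
      simp only [smul_eq_mul, zero_add, mul_one] at h'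
      simpa [h'] using h
    have hf : F.f (u + t • p) = 0 := by
      rw [add_comm, ← one_smul k u, hexp u t 1 hu1 hu2, hfu, mul_zero]
    obtain ⟨y, hy⟩ := hsm _ hv hf
    apply hy
    let y' := y - N y • p - (F.L p y / F.L p z₀) • z₀
    have hy' : y' ∈ W := mW.2 ⟨by simp [y', hN, hz₀], by simp [y', hLp, hz₀']⟩
    have h1 := hall y' hy'
    have h2 : F.T u u p = 0 := by rw [F.s13]; exact hbil u hu1 hu2 u
    simp only [y', map_sub, map_smul, h2, smul_eq_mul, mul_zero, sub_zero] at h1
    have h3 : F.T u p y = 0 := by rw [F.s12]; exact hbil u hu1 hu2 y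
    simp only [map_add, map_smul, LinearMap.add_apply, LinearMap.smul_apply, smul_eq_mul,
      hbil u hu1 hu2 y, h3]
    rw [sub_eq_zero] at h1
    rw [h1, show F.T p p y = F.L p y from rfl]
    field_simp at ht ⊢
    linear_combination (F.L p y) * ht
  let b := Module.finBasisOfFinrankEq k ↥W hdimW
  obtain ⟨r, hr, hr0, hfr⟩ : ∃ r ∈ W, r ≠ 0 ∧ F.f r = 0 := by
    by_cases h : F.f (b 0 : V) = 0
    · exact ⟨b 0, (b 0).2, by simpa using b.ne_zero 0, h⟩
    · let q : Polynomial k := Polynomial.C (F.f (b 0 : V)) * Polynomial.X ^ 3 +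
        Polynomial.C (3 * F.T (b 0 : V) (b 0) (b 1)) * Polynomial.X ^ 2 +
        Polynomial.C (3 * F.T (b 0 : V) (b 1) (b 1)) * Polynomial.X + Polynomial.C (F.f (b 1 : V))
      have hq3 : q.degree = 3 := Polynomial.degree_cubic (R := k) h
      obtain ⟨s, hs⟩ := IsAlgClosed.exists_root q (by rw [hq3]; decide)
      refine ⟨((b 1 + s • b 0 : ↥W) : V), (b 1 + s • b 0).2, ?_, ?_⟩
      · intro hv0
        have h0 : (b 1 + s • b 0 : ↥W) = 0 := Subtype.ext hv0
        have := congrArg (fun x => b.repr x 1) h0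
        simp at this
      · rw [Submodule.coe_add, Submodule.coe_smul, F.f_add_smul, F.s13 (b 1 : V) (b 1) (b 0),
          F.s13 (b 1 : V) (b 0) (b 0)]
        simp only [Polynomial.IsRoot, q, Polynomial.eval_add, Polynomial.eval_mul,
          Polynomial.eval_C, Polynomial.eval_pow, Polynomial.eval_X] at hs
        linear_combination hs
  obtain ⟨w, hw, hwr⟩ := exists_mem_notMem_span (k := k) (e := r) hdimW
  set a := F.T r r w with hadef
  set d := F.T r w w with hddef
  have hlin : ∀ y ∈ W, ∃ s t : k, y = s • r + t • w := fun y hy =>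
    exists_coeff_of_mem_line hr0 hdimW hr hw hwr hy
  have ha : a ≠ 0 := fun h0 => by
    obtain ⟨y, hy, hy'⟩ := simple r hr hr0 hfr
    obtain ⟨s, t, rfl⟩ := hlin y hy
    exact hy' (by simp [show F.T r r r = 0 from hfr, ← hadef, h0])
  have hfw : ∀ s : k, F.f (w + s • r) = 3 * a * s ^ 2 + 3 * d * s + F.f w := by
    intro s
    rw [F.f_add_smul, hfr, F.s13 w w r, F.s13 w r r]
    ring
  obtain ⟨q, hq⟩ := IsAlgClosed.exists_pow_nat_eq (9 * d ^ 2 - 12 * a * F.f w) (n := 2) two_pos
  have hroot : ∀ ε : k, ε ^ 2 = 1 → F.f (w + ((-3 * d + ε * q) / (6 * a)) • r) = 0 := by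
    intro ε hε
    rw [hfw]
    field_simp
    linear_combination 3 * hq + 3 * q ^ 2 * hε
  have hq0 : q ≠ 0 := fun h0 => by
    obtain ⟨y, hy, hy'⟩ := simple (w + ((-3 * d + 1 * q) / (6 * a)) • r)
      (add_mem hw (smul_mem _ _ hr)) (fun h => hwr <| by
        rw [add_eq_zero_iff_eq_neg.1 h, ← neg_smul]; exact smul_mem _ _ (mem_span_singleton_self r))
      (hroot 1 (one_pow 2))
    set s := (-3 * d + 1 * q) / (6 * a) with hs
    have hsa : 2 * s * a + d = 0 := by rw [hs, h0]; field_simp; ring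
    have e1 : F.T (w + s • r) (w + s • r) r = 0 := by
      simp only [map_add, map_smul, LinearMap.add_apply, LinearMap.smul_apply, smul_eq_mul]
      rw [F.s12 w r r, F.s23 r w r, F.s13 w w r, show F.T r r r = 0 from hfr]
      linear_combination hsa
    have e2 : F.T (w + s • r) (w + s • r) (w + s • r) = 0 := hroot 1 (one_pow 2)
    obtain ⟨u, t, rfl⟩ := hlin y hy
    refine hy' ?_
    rw [show u • r + t • w = (u - t * s) • r + t • (w + s • r) by module, map_add, map_smul,
      map_smul, e1, e2, smul_zero, smul_zero, add_zero]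
  let σ : Fin 3 → V := ![r, w + ((-3 * d + 1 * q) / (6 * a)) • r,
    w + ((-3 * d + -1 * q) / (6 * a)) • r]
  have hσW : ∀ i, σ i ∈ W := fun i => by
    fin_cases i
    exacts [hr, add_mem hw (smul_mem _ _ hr), add_mem hw (smul_mem _ _ hr)]
  have hσf : ∀ i, F.f (σ i) = 0 := fun i => by
    fin_cases i
    exacts [hfr, hroot 1 (one_pow 2), hroot (-1) (by norm_num)]
  have hind : LinearIndependent k ![r, w] :=
    (LinearIndependent.pair_iff' hr0).2 fun a h => hwr (h ▸ smul_mem _ a (mem_span_singleton_self r))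
  have key : ∀ i j (t : k), σ j = t • σ i → i = j := by
    have hcoeff : ∀ x y : k, x • r + y • w = 0 → x = 0 ∧ y = 0 :=
      LinearIndependent.pair_iff.1 hind
    intro i j t h
    have hne : (-3 * d + 1 * q) / (6 * a) ≠ (-3 * d + -1 * q) / (6 * a) := by
      intro h; field_simp at h; exact hq0 (by linear_combination h / 2)
    let x : Fin 3 → k := ![1, (-3 * d + 1 * q) / (6 * a), (-3 * d + -1 * q) / (6 * a)]
    let y : Fin 3 → k := ![0, 1, 1]
    have hσ : ∀ i, σ i = x i • r + y i • w := fun i => by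
      fin_cases i <;> simp [σ, x, y, add_comm]
    obtain ⟨hx, hy⟩ := hcoeff (x j - t * x i) (y j - t * y i) (by
      rw [← sub_eq_zero.2 h, hσ, hσ]; module)
    rw [sub_eq_zero] at hx hy
    fin_cases i <;> fin_cases j <;>
      simp only [x, y, Fin.zero_eta, Fin.mk_one, Fin.reduceFinMk, Matrix.cons_val, mul_zero,
        mul_one] at hx hy
    all_goals simp only [one_mul] at hx hne
    all_goals first
      | rfl
      | (exfalso
         first
          | exact one_ne_zero hy
          | (rw [← hy, zero_mul] at hx; exact one_ne_zero hx)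
          | (rw [← hy, one_mul] at hx; exact hne hx.symm)
          | (rw [← hy, one_mul] at hx; exact hne hx))
  have hσ0 : ∀ i, σ i ≠ 0 := fun i h => by
    have h1 := key i (i + 1) (0 : k)
    fin_cases i <;> simp only [σ, Fin.zero_eta, Fin.mk_one, Fin.reduceFinMk, Matrix.cons_val] at h
    · exact hr0 h
    all_goals exact hwr (by rw [add_eq_zero_iff_eq_neg.1 h, ← neg_smul]
                            exact smul_mem _ _ (mem_span_singleton_self r))
  refine ⟨fun i => span k (Set.range ![p, σ i]), fun i j hij => ?_, fun i => ⟨?_, ?_, ?_⟩⟩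
  · have : σ j ∈ span k (Set.range ![p, σ i]) := by
      rw [show span k (Set.range ![p, σ i]) = _ from hij]
      exact subset_span ⟨1, rfl⟩
    rw [Matrix.range_cons, Matrix.range_cons, Matrix.range_empty, Set.union_empty,
      Set.singleton_union, mem_span_pair] at this
    obtain ⟨s, t, h⟩ := this
    have hs : s = 0 := by
      have h' := congrArg N h
      simpa [hN, (mW.1 (hσW i)).1, (mW.1 (hσW j)).1] using h'
    exact key i j t (by rw [← h, hs, zero_smul, zero_add])
  · rw [finrank_span_eq_card, Fintype.card_fin]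
    refine (LinearIndependent.pair_iff' hp).2 fun x hx => hσ0 i ?_
    have h' := congrArg N hx
    rw [map_smul, hN, (mW.1 (hσW i)).1, smul_eq_mul, mul_one] at h'
    rw [← hx, h', zero_smul]
  · exact subset_span ⟨0, rfl⟩
  · intro v hv
    simp only at hv
    rw [Matrix.range_cons, Matrix.range_cons, Matrix.range_empty, Set.union_empty,
      Set.singleton_union, mem_span_pair] at hv
    obtain ⟨s, t, rfl⟩ := hv
    rw [hexp _ s t (mW.1 (hσW i)).1 (mW.1 (hσW i)).2, hσf, mul_zero]

omit [FiniteDimensional k V] in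
/-- Two Eckardt points on a line of the surface are polar to each other. -/
theorem M_eq_zero_of_line (hsm : F.Smooth) {e e' : V}
    (hne : e' ∉ span k {e}) {M M' : V →ₗ[k] k}
    (hT : ∀ x y, F.T e x y = F.L e x * M y + M x * F.L e y)
    (hT' : ∀ x y, F.T e' x y = F.L e' x * M' y + M' x * F.L e' y)
    (hline : ∀ u ∈ span k ({e, e'} : Set V), F.f u = 0) (hL : ∃ y, F.L e y ≠ 0) : M e' = 0 := by
  have me : e ∈ span k ({e, e'} : Set V) := subset_span (by simp)
  have me' : e' ∈ span k ({e, e'} : Set V) := subset_span (by simp)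
  have h1 : F.L e e' = 0 := F.T_eq_zero_of_f_eq_zero hline me me me'
  have h2 : F.L e' e = 0 := F.T_eq_zero_of_f_eq_zero hline me' me' me
  by_contra hc
  set c := M e' with hcdef
  have hprop : ∀ y, c * F.L e y = M' e * F.L e' y := fun y => by
    have := F.s12 e e' y
    rw [hT, hT', h1, h2] at this
    simpa [← hcdef] using this
  obtain ⟨y₀, hy₀⟩ := hL
  have hd : M' e ≠ 0 := fun h => by
    have := hprop y₀
    rw [h, zero_mul] at this
    simp [hc, hy₀] at this
  set d := M' e / c with hddef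
  have hd0 : d ≠ 0 := div_ne_zero hd hc
  have hL' : ∀ y, F.L e y = d * F.L e' y := fun y => by
    rw [hddef, div_mul_eq_mul_div, ← hprop]; field_simp
  obtain ⟨r, hr⟩ := IsAlgClosed.exists_pow_nat_eq (4 * c ^ 2 * d ^ 2 - 4 * d) (n := 2) two_pos
  set s := (-2 * c * d + r) / (2 * d) with hsdef
  have hv : s • e + e' ∈ span k ({e, e'} : Set V) := add_mem (smul_mem _ _ me) me'
  obtain ⟨y, hy⟩ := hsm _ (fun h => hne <| by
    rw [add_eq_zero_iff_neg_eq.1 h |>.symm, ← neg_smul]
    exact smul_mem _ _ (mem_span_singleton_self e)) (hline _ hv)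
  apply hy
  simp only [map_add, map_smul, LinearMap.add_apply, LinearMap.smul_apply, smul_eq_mul]
  rw [show F.T e e y = F.L e y from rfl, show F.T e' e' y = F.L e' y from rfl, F.s12 e' e y,
    hT e' y, h1, zero_mul, zero_add, ← hcdef, hL' y, hsdef]
  field_simp
  linear_combination F.L e' y * hr

omit [CharZero k] [FiniteDimensional k V] [IsAlgClosed k] in
lemma hom_comm {e e' : V} {M M' : V →ₗ[k] k} (h : M e' = 0) (h' : M' e = 0) (x : V) :
    hom e M (hom e' M' x) = hom e' M' (hom e M x) := by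
  simp only [hom_apply, map_sub, map_smul, h, h', sub_zero, mul_zero, zero_smul]
  abel

omit [IsAlgClosed k] [FiniteDimensional k V] in
/-- Geometry of the line through two Eckardt points that is not contained in the surface. -/
theorem secant {e e' : V} (hfe : F.f e = 0) (hfe' : F.f e' = 0) {M M' : V →ₗ[k] k}
    (hT : ∀ x y, F.T e x y = F.L e x * M y + M x * F.L e y)
    (hT' : ∀ x y, F.T e' x y = F.L e' x * M' y + M' x * F.L e' y)
    (hL : ¬ ∀ u ∈ span k ({e, e'} : Set V), F.f u = 0) :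
    M e' ≠ 0 ∧ M' e ≠ 0 ∧ ∀ u ∈ span k ({e, e'} : Set V), F.f u = 0 →
      u ∈ span k {e} ∨ u ∈ span k {e'} ∨ u ∈ span k {hom e M e'} := by
  have hexp : ∀ s t : k, F.f (s • e + t • e') =
      3 * s ^ 2 * t * F.L e e' + 3 * s * t ^ 2 * (2 * F.L e e' * M e') := by
    intro s t
    rw [F.f_add_smul, F.f_smul, hfe, hfe']
    simp only [map_smul, LinearMap.smul_apply, smul_eq_mul, hT e' e', L]
    ring
  have sym1 : F.L e' e = 2 * F.L e e' * M e' := by
    have h := hT e' e'
    rw [show F.T e e' e' = F.L e' e by rw [L, F.s13]] at h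
    rw [h]; ring
  have sym2 : F.L e e' = 2 * F.L e' e * M' e := by
    have h := hT' e e
    rw [show F.T e' e e = F.L e e' by rw [L, F.s13]] at h
    rw [h]; ring
  have ha : F.L e e' ≠ 0 := fun h0 => hL fun u hu => by
    obtain ⟨s, t, rfl⟩ := mem_span_pair.1 hu
    rw [hexp, h0]; ring
  have hb : F.L e' e ≠ 0 := fun h0 => ha (by rw [sym2, h0]; ring)
  have hMe' : M e' ≠ 0 := fun h0 => hb (by rw [sym1, h0, mul_zero])
  refine ⟨hMe', fun h0 => ha (by rw [sym2, h0, mul_zero]), fun u hu hfu => ?_⟩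
  obtain ⟨s, t, rfl⟩ := mem_span_pair.1 hu
  rw [hexp] at hfu
  by_cases ht : t = 0
  · left; simpa [ht] using smul_mem _ s (mem_span_singleton_self e)
  by_cases hs : s = 0
  · right; left; simpa [hs] using smul_mem _ t (mem_span_singleton_self e')
  right; right
  have hst : s = -(2 * t * M e') := by
    refine mul_left_cancel₀ (show (3 : k) * s * t * F.L e e' ≠ 0 by simp [hs, ht, ha]) ?_
    linear_combination hfu
  rw [hst, show (-(2 * t * M e')) • e + t • e' = t • hom e M e' by rw [hom_apply]; module]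
  exact smul_mem _ _ (mem_span_singleton_self _)

end Sym3

end Groth.Agent.Eckardt51
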